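import Groth.Agent.SteinGen.OverField
import Groth.Agent.SteinGen.UnivHomeo
import Groth.Agent.SteinGen.GeomConn
import Groth.Agent.SteinGen.Basic
import Groth.Agent.LBDesc.SpecGamma

/-!
Radicial global sections pass to any base change.
-/

set_option autoImplicit false
set_option backward.isDefEq.respectTransparency false
set_option backward.isDefEq.respectTransparency.types false
set_option linter.style.haveILetI false

universe u

open CategoryTheory CategoryTheory.Limits AlgebraicGeometry TopologicalSpace Opposite

noncomputable section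

namespace Groth.Agent.RadSections

/-- If `g` has connected geometric fibres and `h` is radicial, an integral quotient of a base change of
`g ≫ h` is radicial over the base. -/
theorem universallyInjective_of_surjective {X Y S T Z : Scheme.{u}} (g : X ⟶ Y) [IsProper g] [GeometricallyConnected g]
    (h : Y ⟶ S) [UniversallyInjective h] (f : X ⟶ S) (hf : g ≫ h = f) (i : T ⟶ S) (q : pullback f i ⟶ Z)
    [Surjective q] (s : Z ⟶ T) [IsIntegralHom s] (hq : q ≫ s = pullback.snd f i) : UniversallyInjective s := by
  refine ((tfae_universallyInjective s).out 0 1).2 fun (M : Type u) [Field M] g₁ g₂ hg ↦ ?_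
  have hg' : g₁ ≫ s = g₂ ≫ s := hg
  let K := AlgebraicClosure M
  let w : Spec (CommRingCat.of K) ⟶ Spec (CommRingCat.of M) := Spec.map (CommRingCat.ofHom (algebraMap M K))
  let v := w ≫ g₁ ≫ s
  let P := pullback (pullback.snd f i) v
  let r : P ⟶ pullback s v :=
    pullback.lift (pullback.fst _ _ ≫ q) (pullback.snd _ _) (by rw [Category.assoc, hq, pullback.condition])
  have hr : IsPullback (pullback.fst (pullback.snd f i) v) r q (pullback.fst s v) := by
    refine IsPullback.of_bot ?_ (pullback.lift_fst _ _ _).symm (IsPullback.of_hasPullback s v)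
    rw [pullback.lift_snd, hq]
    exact IsPullback.of_hasPullback _ _
  haveI : Surjective r := MorphismProperty.of_isPullback hr ‹Surjective q›
  have hP : IsPullback (pullback.fst (pullback.snd f i) v ≫ pullback.fst f i)
      (pullback.snd (pullback.snd f i) v) (g ≫ h) (v ≫ i) := by
    rw [hf]
    exact (IsPullback.of_hasPullback (pullback.snd f i) v).paste_horiz (IsPullback.of_hasPullback f i)
  let a : P ⟶ pullback h (v ≫ i) :=
    pullback.lift (pullback.fst _ _ ≫ pullback.fst f i ≫ g) (pullback.snd _ _)
      (by simpa only [Category.assoc] using hP.w)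
  have ha : IsPullback (pullback.fst (pullback.snd f i) v ≫ pullback.fst f i) a g (pullback.fst h (v ≫ i)) := by
    refine IsPullback.of_bot ?_ ?_ (IsPullback.of_hasPullback h (v ≫ i))
    · rw [pullback.lift_snd]; exact hP
    · rw [pullback.lift_fst, Category.assoc]
  haveI : IsProper a := MorphismProperty.of_isPullback (P := @IsProper) ha inferInstance
  haveI : GeometricallyConnected a := MorphismProperty.of_isPullback ha inferInstance
  haveI : UniversallyInjective (pullback.snd h (v ≫ i)) := MorphismProperty.pullback_snd _ _ inferInstance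
  haveI : Subsingleton ↥(pullback h (v ≫ i)) :=
    ⟨fun x y ↦ (pullback.snd h (v ≫ i)).injective (Subsingleton.elim (α := PrimeSpectrum _) _ _)⟩
  haveI : Nonempty ↥(pullback s v) := ⟨(pullback.lift (w ≫ g₁) (𝟙 _) (by simp [v]) :
    Spec (CommRingCat.of K) ⟶ pullback s v) default⟩
  haveI : Nonempty ↥P := ⟨(r.surjective (Classical.arbitrary _)).choose⟩
  haveI : Nonempty ↥(pullback h (v ≫ i)) := ⟨a (Classical.arbitrary _)⟩
  haveI : ConnectedSpace ↥(pullback h (v ≫ i)) :=
    { toPreconnectedSpace := ⟨Set.subsingleton_univ.isPreconnected⟩, toNonempty := inferInstance }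
  haveI : ConnectedSpace ↥P := by
    rw [connectedSpace_iff_univ]
    have := SteinGen.isConnected_preimage_of_closed a.isClosedMap a.surjective
      (fun p ↦ a.isConnected_preimage_singleton p) isConnected_univ
    simpa using this
  haveI : ConnectedSpace ↥(pullback s v) := r.surjective.connectedSpace r.continuous
  haveI : IsIntegralHom (pullback.snd s v) := MorphismProperty.pullback_snd _ _ inferInstance
  have h0 := SteinGen.subsingleton_sections (pullback.snd s v) (pullback.lift (w ≫ g₁) (𝟙 _) (by simp [v]))
    (pullback.lift (w ≫ g₂) (𝟙 _) (by simp [v, hg'])) (pullback.lift_snd _ _ _) (pullback.lift_snd _ _ _)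
  have h' := congrArg (· ≫ pullback.fst s v) h0
  simp only [pullback.lift_fst] at h'
  haveI : Flat w := (HasRingHomProperty.Spec_iff (P := @Flat)).mpr (RingHom.flat_algebraMap_iff.mpr inferInstance)
  haveI : Surjective w := GeomConn.surjective_Spec_field
  haveI : QuasiCompact w := inferInstance
  exact (cancel_epi w).mp h'

/-- The map onto the spectrum of global sections of a proper scheme over an affine one. -/
theorem stein_toSpecΓ {X S : Scheme.{u}} (f : X ⟶ S) [IsProper f] [IsAffine S] :
    IsProper X.toSpecΓ ∧ GeometricallyConnected X.toSpecΓ ∧ IsIntegralHom (Spec.map f.appTop) := by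
  haveI : CompactSpace X := QuasiCompact.compactSpace_of_compactSpace f
  haveI : QuasiSeparatedSpace X := quasiSeparatedSpace_of_quasiSeparated f
  haveI : IsProper (f ≫ S.toSpecΓ) := inferInstance
  haveI : IsProper (X.toSpecΓ ≫ Spec.map f.appTop) := by
    rw [← Scheme.toSpecΓ_naturality]; infer_instance
  haveI h1 : IsProper X.toSpecΓ := IsProper.of_comp X.toSpecΓ (Spec.map f.appTop)
  exact ⟨h1, SteinGen.geometricallyConnected_of_isIso_app _ fun U ↦
    (ConcreteCategory.isIso_iff_bijective _).mpr (LBDesc.app_bijective_toSpecΓ U),
    IsIntegralHom.SpecMap_iff.mpr (SteinGen.isIntegral_app f (isAffineOpen_top S))⟩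

/-- Radicial global sections stay so after any affine base change. -/
theorem universallyInjective_baseChange {X S T : Scheme.{u}} (f : X ⟶ S) [IsProper f] [IsAffine S] [IsAffine T]
    (hpi : UniversallyInjective (Spec.map f.appTop)) (i : T ⟶ S) :
    UniversallyInjective (Spec.map (pullback.snd f i).appTop) := by
  obtain ⟨_, _, _⟩ := stein_toSpecΓ f
  obtain ⟨_, _, _⟩ := stein_toSpecΓ (pullback.snd f i)
  let h := Spec.map f.appTop ≫ inv S.toSpecΓ
  have hf : X.toSpecΓ ≫ h = f := by
    rw [← Category.assoc, ← Scheme.toSpecΓ_naturality, Category.assoc, IsIso.hom_inv_id, Category.comp_id]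
  haveI : UniversallyInjective h := by
    exact MorphismProperty.comp_mem _ _ _ hpi (inferInstance : UniversallyInjective (inv S.toSpecΓ))
  let s := Spec.map (pullback.snd f i).appTop ≫ inv T.toSpecΓ
  have hq : (pullback f i).toSpecΓ ≫ s = pullback.snd f i := by
    rw [← Category.assoc, ← Scheme.toSpecΓ_naturality, Category.assoc, IsIso.hom_inv_id, Category.comp_id]
  haveI : UniversallyInjective s :=
    universallyInjective_of_surjective X.toSpecΓ h f hf i (pullback f i).toSpecΓ s hq
  have he : Spec.map (pullback.snd f i).appTop = s ≫ T.toSpecΓ := by simp [s]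
  rw [he]
  exact MorphismProperty.comp_mem _ _ _ ‹UniversallyInjective s› (inferInstance : UniversallyInjective T.toSpecΓ)

end Groth.Agent.RadSections
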